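import Cfsg.Agent.H601.K4.Defs
import Cfsg.Agent.H714.K4.Defs

/-!
# Four real characters of odd degree, with the sum of the degrees divisible by four (helper324, for S4947)

* `FourReal S` : there are four different real-valued irreducible characters of odd degree, and the sum of the degrees
  is divisible by four;
* `FourReal.of_degrees` : the criterion by four different degrees.
-/

set_option autoImplicit false

namespace Cfsg.Agent.H324.K4

open Cfsg Cfsg.Agent.Characters.Core

universe u v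

/-- Four real-valued irreducible characters of odd degree, with the sum of the degrees divisible by four. -/
def FourReal (S : Type u) [Group S] : Prop :=
  ∃ χ : Fin 4 → S → ℂ, Function.Injective χ ∧ (∀ i, IsIrrCharacter S (χ i)) ∧ (∀ i, ¬ 2 ∣ charDegree (χ i)) ∧
    (∀ i x, (χ i x).im = 0) ∧ 4 ∣ ∑ i, charDegree (χ i)

/-- an irreducible real-valued character of the given degree -/
def IR (S : Type u) [Group S] (n : ℕ) : Prop :=
  ∃ χ : S → ℂ, IsIrrCharacter S χ ∧ (∀ x, (χ x).im = 0) ∧ χ 1 = (n : ℂ)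

theorem charDegree_of {S : Type u} [Group S] {χ : S → ℂ} {n : ℕ} (h : χ 1 = (n : ℂ)) : charDegree χ = n := by
  rw [charDegree, h]
  simp

theorem IR.one (S : Type u) [Group S] : IR S 1 := ⟨1, isIrr_one, fun x => by simp, by simp⟩

theorem IR.of_inv {S : Type u} [Group S] {χ : S → ℂ} (h : H601.OddDeg.Inv χ) {n : ℕ} (hn : χ 1 = (n : ℂ)) : IR S n :=
  ⟨χ, h.1, h.2.1, hn⟩

theorem IR.congr {S : Type u} {T : Type v} [Group S] [Group T] (e : S ≃* T) {n : ℕ} (h : IR S n) : IR T n := by
  obtain ⟨χ, h1, h2, h3⟩ := h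
  exact ⟨fun x => χ (e.symm x), isIrr_comp e.symm.toMonoidHom e.symm.surjective h1, fun x => h2 _, by
    show χ (e.symm 1) = n
    rw [map_one, h3]⟩

/-- The criterion by four different degrees. -/
theorem FourReal.of_degrees {S : Type u} [Group S] {a b c d : ℕ} (ha : IR S a) (hb : IR S b) (hc : IR S c)
    (hd : IR S d) (oa : ¬ 2 ∣ a) (ob : ¬ 2 ∣ b) (oc : ¬ 2 ∣ c) (od : ¬ 2 ∣ d) (hab : a ≠ b) (hac : a ≠ c)
    (had : a ≠ d) (hbc : b ≠ c) (hbd : b ≠ d) (hcd : c ≠ d) (h4 : 4 ∣ a + b + c + d) : FourReal S := by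
  obtain ⟨χ₁, h11, h12, h13⟩ := ha
  obtain ⟨χ₂, h21, h22, h23⟩ := hb
  obtain ⟨χ₃, h31, h32, h33⟩ := hc
  obtain ⟨χ₄, h41, h42, h43⟩ := hd
  have hne : ∀ {χ ψ : S → ℂ} {m n : ℕ}, χ 1 = (m : ℂ) → ψ 1 = (n : ℂ) → m ≠ n → χ ≠ ψ := by
    rintro χ ψ m n h1 h2 h3 rfl
    rw [h1] at h2
    exact h3 (by exact_mod_cast h2)
  refine ⟨![χ₁, χ₂, χ₃, χ₄], ?_, ?_, ?_, ?_, ?_⟩
  · intro i j hij
    fin_cases i <;> fin_cases j <;> first
      | rfl
      | exact absurd hij (hne h13 h23 hab)
      | exact absurd hij (hne h13 h33 hac)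
      | exact absurd hij (hne h13 h43 had)
      | exact absurd hij (hne h23 h13 hab.symm)
      | exact absurd hij (hne h23 h33 hbc)
      | exact absurd hij (hne h23 h43 hbd)
      | exact absurd hij (hne h33 h13 hac.symm)
      | exact absurd hij (hne h33 h23 hbc.symm)
      | exact absurd hij (hne h33 h43 hcd)
      | exact absurd hij (hne h43 h13 had.symm)
      | exact absurd hij (hne h43 h23 hbd.symm)
      | exact absurd hij (hne h43 h33 hcd.symm)
  · intro i
    fin_cases i
    · exact h11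
    · exact h21
    · exact h31
    · exact h41
  · intro i
    fin_cases i
    · show ¬ 2 ∣ charDegree χ₁
      rwa [charDegree_of h13]
    · show ¬ 2 ∣ charDegree χ₂
      rwa [charDegree_of h23]
    · show ¬ 2 ∣ charDegree χ₃
      rwa [charDegree_of h33]
    · show ¬ 2 ∣ charDegree χ₄
      rwa [charDegree_of h43]
  · intro i
    fin_cases i
    · exact h12
    · exact h22
    · exact h32
    · exact h42
  · rw [Fin.sum_univ_four]
    show 4 ∣ charDegree χ₁ + charDegree χ₂ + charDegree χ₃ + charDegree χ₄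
    rwa [charDegree_of h13, charDegree_of h23, charDegree_of h33, charDegree_of h43]

theorem FourReal.congr {S : Type u} {T : Type v} [Group S] [Group T] (e : S ≃* T) (h : FourReal S) : FourReal T := by
  obtain ⟨χ, h1, h2, h3, h4, h5⟩ := h
  have hd : ∀ i, charDegree (fun x : T => χ i (e.symm x)) = charDegree (χ i) := by
    intro i
    show ⌊(χ i (e.symm 1)).re⌋₊ = ⌊(χ i 1).re⌋₊
    rw [map_one]
  refine ⟨fun i x => χ i (e.symm x), ?_, fun i => isIrr_comp e.symm.toMonoidHom e.symm.surjective (h2 i), ?_,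
    fun i x => h4 i _, ?_⟩
  · intro i j hij
    apply h1
    funext s
    have := congrFun hij (e s)
    simpa using this
  · intro i
    rw [hd]
    exact h3 i
  · simp only [hd]
    exact h5

end Cfsg.Agent.H324.K4
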