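import Cfsg.Agent.H324.K4.FourReal
import Cfsg.Agent.H601.OddDeg.Small
import Cfsg.Agent.H612.Deg3.Series
import Cfsg.Agent.H326.T3.SlDeg

/-!
# `PSL_3(q)`, `q` odd: four real characters of odd degree (helper324, for S4947)

Their degrees are `1`, `q ^ 3`, `q ^ 2 + q + 1`, `q (q ^ 2 + q + 1)`.
-/

set_option autoImplicit false
set_option linter.unusedSectionVars false

open scoped ComplexConjugate
open Cfsg Matrix

namespace Cfsg.Agent.H324.K4

open Cfsg.Agent.Characters Cfsg.Agent.Characters.Core Cfsg.Agent.OddOrderCharacters.Clifford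
  Cfsg.Agent.H670 Cfsg.Agent.H670.RankOne Cfsg.Agent.H612.Deg3

universe u v

/-- the constituents of a real character with two constituents of different degrees -/
theorem real_of_add {G : Type*} [Group G] [Fintype G] {Θ a b : G → ℂ} (ha : IsIrrCharacter G a)
    (hb : IsIrrCharacter G b) (hab : a 1 ≠ b 1) (h : Θ = a + b) (hΘ : ∀ x, conj (Θ x) = Θ x) :
    (∀ x, (a x).im = 0) ∧ (∀ x, (b x).im = 0) := by
  classical
  have hne : a ≠ b := fun h' => hab (by rw [h'])
  have ha' := isIrr_conj ha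
  have hb' := isIrr_conj hb
  have hsum : Θ = (fun g => conj (a g)) + fun g => conj (b g) := by
    funext x
    rw [← hΘ x, h]
    simp
  have hd : ∀ {χ : G → ℂ}, IsIrrCharacter G χ → conj (χ 1) = χ 1 := by
    intro χ hχ
    obtain ⟨n, -, hn⟩ := isIrr_apply_one hχ
    rw [hn]
    simp
  have h1 : (fun g => conj (a g)) = a ∨ (fun g => conj (a g)) = b := by
    by_contra hc
    push Not at hc
    have h2 : classInner Θ (fun g => conj (a g)) = 0 := by
      rw [h, classInner_add_left, classInner_irr_ne ha ha' (Ne.symm hc.1), classInner_irr_ne hb ha' (Ne.symm hc.2), add_zero]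
    rw [hsum, classInner_add_left, classInner_irr_self ha'] at h2
    have h3 : classInner (fun g => conj (b g)) (fun g => conj (a g)) = 0 := by
      apply classInner_irr_ne hb' ha'
      intro h4
      apply hab
      have h5 := congrFun h4 1
      simp only [hd ha, hd hb] at h5
      exact h5.symm
    rw [h3, add_zero] at h2
    exact one_ne_zero h2
  have h2 : (fun g => conj (a g)) = a := by
    rcases h1 with h1 | h1
    · exact h1
    · exfalso
      apply hab
      have := congrFun h1 1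
      simp only [hd ha] at this
      exact this
  have h3 : ∀ x, conj (a x) = a x := fun x => congrFun h2 x
  have h4 : ∀ x, conj (b x) = b x := by
    intro x
    have h5 := hΘ x
    rw [h, Pi.add_apply, map_add, h3] at h5
    exact add_left_cancel h5
  exact ⟨fun x => Complex.conj_eq_iff_im.1 (h3 x), fun x => Complex.conj_eq_iff_im.1 (h4 x)⟩

/-- induced real functions are real -/
theorem indFun_real {G : Type*} [Group G] [Fintype G] (H : Subgroup G) {ψ : H → ℂ} (h : ∀ x, conj (ψ x) = ψ x) (g : G) :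
    conj (indFun H ψ g) = indFun H ψ g := by
  classical
  rw [Core.indFun_apply, map_mul, map_inv₀, Complex.conj_natCast, map_sum]
  congr 1
  refine Finset.sum_congr rfl fun x _ => ?_
  unfold extendByZero
  by_cases hx : x⁻¹ * g * x ∈ H
  · have h1 : Function.extend Subtype.val ψ 0 (x⁻¹ * g * x) = ψ ⟨_, hx⟩ :=
      Function.Injective.extend_apply Subtype.val_injective ψ 0 (⟨_, hx⟩ : H)
    rw [h1, h]
  · rw [Function.extend_apply' _ _ _ (by
      rintro ⟨a, ha⟩
      exact hx (ha ▸ a.2))]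
    simp

section

variable {F : Type v} [Field F] [Fintype F]

/-- the quadratic character as a homomorphism -/
theorem exists_quad (h2 : (2 : F) ≠ 0) : ∃ α : Fˣ →* ℂˣ, α ≠ 1 ∧ ∀ a, α a * α a = 1 := by
  classical
  have h1 : ringChar F ≠ 2 := by
    intro h
    apply h2
    have := ringChar.Nat.cast_ringChar (R := F)
    rw [h] at this
    exact_mod_cast this
  obtain ⟨a, ha⟩ := quadraticChar_exists_neg_one h1
  let χ : MulChar F ℂ := (quadraticChar F).ringHomComp (Int.castRingHom ℂ)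
  have hχ : ∀ u : Fˣ, (χ.toUnitHom u : ℂ) = ((quadraticChar F (u : F) : ℤ) : ℂ) := by
    intro u
    rw [MulChar.coe_toUnitHom]
    rfl
  refine ⟨χ.toUnitHom, ?_, ?_⟩
  · intro h
    have ha0 : a ≠ 0 := by
      rintro rfl
      simp at ha
    have h3 := hχ (Units.mk0 a ha0)
    rw [h, Units.val_mk0, ha] at h3
    norm_num at h3
  · intro u
    apply Units.ext
    rw [Units.val_mul, hχ, Units.val_one]
    have h3 := quadraticChar_sq_one (F := F) u.ne_zero
    have h4 : ((quadraticChar F (u : F) : ℤ) : ℂ) * ((quadraticChar F (u : F) : ℤ) : ℂ) =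
        ((quadraticChar F (u : F) ^ 2 : ℤ) : ℂ) := by push_cast; ring
    rw [h4, h3]
    simp

theorem conj_of_sq {z : ℂˣ} (h : z * z = 1) : conj (z : ℂ) = z := by
  have h1 : (z : ℂ) * z = 1 := by rw [← Units.val_mul, h, Units.val_one]
  have h2 : (z : ℂ) = 1 ∨ (z : ℂ) = -1 := mul_self_eq_one_iff.1 h1
  rcases h2 with h2 | h2 <;> rw [h2] <;> simp

end

section

variable {F : Type v} [Field F] [Fintype F] [Fintype Fˣ] [Fintype (SpecialLinearGroup (Fin 3) F)]
  [Fintype (GL (Fin 2) F)]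

theorem exists_sl3 {α : Fˣ →* ℂˣ} (hα : α ≠ 1) (hα2 : ∀ a, α a * α a = 1) :
    ∃ χ₁ χ₂ : SpecialLinearGroup (Fin 3) F → ℂ, IsIrrCharacter _ χ₁ ∧ IsIrrCharacter _ χ₂ ∧
      (∀ x, (χ₁ x).im = 0) ∧ (∀ x, (χ₂ x).im = 0) ∧ ZT χ₁ ∧ ZT χ₂ ∧
      χ₁ 1 = (Fintype.card F : ℂ) ^ 2 + Fintype.card F + 1 ∧
      χ₂ 1 = (Fintype.card F : ℂ) * ((Fintype.card F : ℂ) ^ 2 + Fintype.card F + 1) := by
  classical
  let mu := GL2.lamE F (α, α)
  have hmu : mu = mu.comp (GL2.data F).wT := (GL2.lamE_invariant_iff (α, α)).2 rfl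
  have hmuf : ∀ a b, fl mu (a, b) = α a * α b := fun a b => GL2.lamE_tt (α, α) (a, b)
  obtain ⟨a₀, ha₀⟩ : ∃ a₀, α a₀ ≠ 1 := by
    by_contra hc
    push Not at hc
    exact hα (MonoidHom.ext hc)
  have hmune : fl mu ≠ (fl mu).comp sg := by
    intro h'
    have h1 := congrArg (fun f : Fˣ × Fˣ →* ℂˣ => f (a₀, 1)) h'
    simp only [MonoidHom.comp_apply, sg_apply] at h1
    rw [hmuf, hmuf, map_one, mul_one] at h1
    apply ha₀
    rw [h1]
    simp
  obtain ⟨Ψ₁, Ψ₂, h1, h2, h12, hsum⟩ := (GL2.data F).exists_ind_eq_add hmu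
  have i1 : classInner Ψ₁ ((GL2.data F).ind mu) ≠ 0 := by
    rw [hsum, classInner_add_right, classInner_irr_self h1, classInner_irr_ne h1 h2 h12, add_zero]
    exact one_ne_zero
  have i2 : classInner Ψ₂ ((GL2.data F).ind mu) ≠ 0 := by
    rw [hsum, classInner_add_right, classInner_irr_self h2, classInner_irr_ne h2 h1 h12.symm, zero_add]
    exact one_ne_zero
  obtain ⟨j1, c1⟩ := half_J hmu h1 i1
  obtain ⟨j2, c2⟩ := half_J hmu h2 i2
  have r1 := isIrr_of_classInner_self (isCharacter_I (isIrr_isCharacter h1)) (norm_half h1 j1 hmune)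
  have r2 := isIrr_of_classInner_self (isCharacter_I (isIrr_isCharacter h2)) (norm_half h2 j2 hmune)
  have d1 := (deg_cf h1).2.1 c1
  have d2 := (deg_cf h2).2.1 c2
  have hone : Ψ₁ 1 + Ψ₂ 1 = (Fintype.card F : ℂ) + 1 := by
    rw [← (GL2.data F).ind_one mu, hsum, Pi.add_apply]
  have hq1 : (Fintype.card F : ℂ) ≠ 1 := by
    have : Fintype.card F ≠ 1 := Fintype.one_lt_card.ne'
    exact_mod_cast this
  -- the induced character is real
  have hreal : ∀ x, conj ((GL2.data F).ind mu x) = (GL2.data F).ind mu x := by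
    intro x
    rw [Data.ind_def]
    apply indFun_real
    intro b
    rw [Data.lift_apply]
    apply conj_of_sq
    obtain ⟨u, hu⟩ := GL2.exists_tt ((GL2.data F).proj b)
    rw [hu]
    show fl mu u * fl mu u = 1
    obtain ⟨a, b⟩ := u
    rw [hmuf, mul_mul_mul_comm, hα2, hα2, one_mul]
  -- the centre
  have hz : ∀ c : Fˣ, (GL2.data F).ind mu (GL2.tor (c, c)) = (GL2.data F).ind mu 1 := fun c =>
    ind_scalar (lam := mu) (fun c => by rw [hmuf, hα2]) c
  have hz1 : ZT (I Ψ₁) := zt_I fun c => OddOrderCharacters.PF9.CliffGen.constituent_ker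
    (Data.isCharacter_ind (GL2.data F) mu) h1 (by
      intro h0
      apply i1
      rw [← classInner_conj_symm, h0, map_zero]) (hz c)
  have hz2 : ZT (I Ψ₂) := zt_I fun c => OddOrderCharacters.PF9.CliffGen.constituent_ker
    (Data.isCharacter_ind (GL2.data F) mu) h2 (by
      intro h0
      apply i2
      rw [← classInner_conj_symm, h0, map_zero]) (hz c)
  have hIr : ∀ {Ψ : GL (Fin 2) F → ℂ}, (∀ x, (Ψ x).im = 0) → ∀ x, (I Ψ x).im = 0 := by
    intro Ψ hΨ x
    apply Complex.conj_eq_iff_im.1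
    unfold I
    apply indFun_real
    intro y
    exact Complex.conj_eq_iff_im.2 (hΨ _)
  rcases d1 with d1 | d1
  · have d2' : Ψ₂ 1 = (Fintype.card F : ℂ) := by
      rw [d1] at hone
      linear_combination hone
    obtain ⟨s1, s2⟩ := real_of_add h1 h2 (by rw [d1, d2']; exact hq1.symm) hsum hreal
    refine ⟨I Ψ₁, I Ψ₂, r1, r2, hIr s1, hIr s2, hz1, hz2, ?_, ?_⟩
    · rw [I_one, d1, mul_one]
    · rw [I_one, d2', mul_comm]
  · have d2' : Ψ₂ 1 = 1 := by
      rw [d1] at hone
      linear_combination hone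
    obtain ⟨s1, s2⟩ := real_of_add h1 h2 (by rw [d1, d2']; exact hq1) hsum hreal
    refine ⟨I Ψ₂, I Ψ₁, r2, r1, hIr s2, hIr s1, hz2, hz1, ?_, ?_⟩
    · rw [I_one, d2', mul_one]
    · rw [I_one, d1, mul_comm]

theorem ir_of_zt {χ : SpecialLinearGroup (Fin 3) F → ℂ} (h : IsIrrCharacter _ χ) (hr : ∀ x, (χ x).im = 0) (hz : ZT χ)
    {n : ℕ} (hn : χ 1 = (n : ℂ)) : IR (ProjectiveSpecialLinearGroup (Fin 3) F) n := by
  have := Fintype.ofFinite (Subgroup.center (SpecialLinearGroup (Fin 3) F))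
  obtain ⟨η, hη⟩ := Cfsg.Agent.Blocks.Deflate.exists_deflation (Subgroup.center (SpecialLinearGroup (Fin 3) F)) χ h (by
    have h1 : ∀ n : Subgroup.center (SpecialLinearGroup (Fin 3) F), χ (n : SpecialLinearGroup (Fin 3) F) = χ 1 :=
      fun n => hz _ n.property
    simp only [h1]
    rw [Finset.sum_const, Finset.card_univ, nsmul_eq_mul]
    exact mul_ne_zero (Nat.cast_ne_zero.2 Fintype.card_ne_zero) (isIrr_apply_one_ne_zero h))
  refine ⟨η, η.2, ?_, ?_⟩
  · intro x
    obtain ⟨g, rfl⟩ := QuotientGroup.mk_surjective x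
    have := congrFun hη g
    simp only [Function.comp_apply] at this
    rw [← this]
    exact hr g
  · have := congrFun hη 1
    simp only [Function.comp_apply] at this
    rw [hn] at this
    exact this.symm

end

/-- **`PSL_3(q)`, `q` odd.** -/
theorem fourReal_psl3 {F : Type} [Field F] [Fintype F] {p : ℕ} [CharP F p] (hp : p.Prime) (hp2 : p ≠ 2)
    [IsSimpleGroup (ProjectiveSpecialLinearGroup (Fin 3) F)] : FourReal (ProjectiveSpecialLinearGroup (Fin 3) F) := by
  classical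
  have : Fact p.Prime := ⟨hp⟩
  have := Fintype.ofFinite (SpecialLinearGroup (Fin 3) F)
  have := Fintype.ofFinite (GL (Fin 2) F)
  obtain ⟨α, hα, hα2⟩ := exists_quad (F := F) (H601.OddDeg.Small.two_ne (F := F) hp2)
  obtain ⟨χ₁, χ₂, h1, h2, r1, r2, z1, z2, d1, d2⟩ := exists_sl3 hα hα2
  obtain ⟨Q, ψ, hψ, hψ1, hQ⟩ := H601.OddDeg.Small.exists_st hp hp2 (by norm_num)
    (Omega.ML.Ex.Typ.typ_PSL (F := F) 2 (p := p))
  have hQc : Nat.card Q = Fintype.card F ^ 3 := H326.T3.card_sylow p Q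
  rw [hQc] at hψ1
  set q := Fintype.card F with hq
  have hodd : Odd q := by
    obtain ⟨n, hn, hn'⟩ := FiniteField.card F p
    rw [hq, hn']
    exact (hp.odd_of_ne_two hp2).pow
  have hq2 : 2 ≤ q := Fintype.one_lt_card
  obtain ⟨k, hk⟩ := hodd
  have i2 : IR (ProjectiveSpecialLinearGroup (Fin 3) F) (q ^ 2 + q + 1) := ir_of_zt h1 r1 z1 (by rw [d1]; push_cast; ring)
  have i3 : IR (ProjectiveSpecialLinearGroup (Fin 3) F) (q * (q ^ 2 + q + 1)) :=
    ir_of_zt h2 r2 z2 (by rw [d2]; push_cast; ring)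
  have hc : q < q ^ 3 := by
    calc q < q * 2 := by omega
      _ ≤ q * q ^ 2 := Nat.mul_le_mul_left _ (by nlinarith)
      _ = q ^ 3 := by ring
  have hsq : q ^ 2 + q + 1 < q ^ 3 := by
    have h3 : q ^ 3 = q * q ^ 2 := by ring
    rcases Nat.lt_or_ge q 3 with h4 | h4
    · have : q = 2 := by omega
      omega
    · nlinarith
  refine FourReal.of_degrees (IR.one _) (IR.of_inv hψ hψ1) i2 i3 (by norm_num) ?_ ?_ ?_ ?_ ?_ ?_ ?_ ?_ ?_ ?_
  · rw [hk]
    intro h
    have := (Nat.prime_two.dvd_of_dvd_pow h)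
    omega
  · have : q ^ 2 + q + 1 = 2 * (2 * k ^ 2 + 3 * k + 1) + 1 := by rw [hk]; ring
    omega
  · have : q * (q ^ 2 + q + 1) = 2 * (4 * k ^ 3 + 8 * k ^ 2 + 6 * k + 1) + 1 := by rw [hk]; ring
    omega
  · omega
  · have := Nat.pos_of_ne_zero (show q ^ 2 ≠ 0 by positivity)
    omega
  · have h4 : q * 1 < q * (q ^ 2 + q + 1) := Nat.mul_lt_mul_of_pos_left (by nlinarith) (by omega)
    omega
  · omega
  · have h4 : q * (q ^ 2 + q + 1) = q ^ 3 + (q ^ 2 + q) := by ring
    have := Nat.pos_of_ne_zero (show q ^ 2 ≠ 0 by positivity)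
    omega
  · have h4 : q * (q ^ 2 + q + 1) = q ^ 3 + (q ^ 2 + q) := by ring
    omega
  · refine ⟨4 * k ^ 3 + 8 * k ^ 2 + 6 * k + 2, ?_⟩
    rw [hk]
    ring

end Cfsg.Agent.H324.K4
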