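import Cfsg.Agent.H324.K4.PSL3
import Cfsg.Agent.H145.U3Psu

/-!
# `PSU_3(q)`, `q` odd: four real characters of odd degree (helper324, for S4947)

Their degrees are `1`, `q ^ 3`, `q ^ 2 - q + 1`, `q (q ^ 2 - q + 1)`; the last two are the constituents of the character
of `SU_3(q)` induced from the quadratic character of a Borel subgroup (helper145).
-/

set_option autoImplicit false
set_option linter.unusedSectionVars false

open scoped ComplexConjugate
open Cfsg Matrix

namespace Cfsg.Agent.H324.K4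

open Cfsg.Agent.Characters.Core
  Cfsg.Agent.LieClassical.HermBasic Cfsg.Agent.LieClassical.HermSiegel Cfsg.Agent.LieClassical.HermGen
  Cfsg.Agent.LieClassical.SUBasic Cfsg.Agent.ClassicalGeometry.PSUAutBasic
  Cfsg.Agent.H961.LineChar Cfsg.Agent.H618.InvPSU3 Cfsg.Agent.H145.U3Sum Cfsg.Agent.H145.RankOne
  Cfsg.Agent.H145.U3Op Cfsg.Agent.H145.U3Ker Cfsg.Agent.H145.U3Ind

section

variable {F : Type*} [Field F] [Fintype F] {q : ℕ} {e f : Fin 3 → F}

/-- the quadratic character -/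
noncomputable def quad (F : Type*) [Field F] [Fintype F] : MulChar F ℂ :=
  open Classical in (quadraticChar F).ringHomComp (Int.castRingHom ℂ)

theorem quad_real (a : F) : conj (quad F a) = quad F a := by
  classical
  unfold quad
  rw [MulChar.ringHomComp_apply]
  simp

theorem quad_sq : quad F ^ 2 = 1 := by
  classical
  ext u
  rw [MulChar.pow_apply_coe, MulChar.one_apply_coe]
  unfold quad
  rw [MulChar.ringHomComp_apply]
  have h3 := quadraticChar_sq_one (F := F) u.ne_zero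
  have h4 := congrArg (fun z : ℤ => (z : ℂ)) h3
  simp only [Int.cast_pow, Int.cast_one] at h4
  simpa using h4

theorem quad_ne (h2 : (2 : F) ≠ 0) : quad F ≠ 1 := by
  classical
  intro h
  obtain ⟨α, hα, -⟩ := exists_quad h2
  have h1 : ringChar F ≠ 2 := by
    intro h
    apply h2
    have := ringChar.Nat.cast_ringChar (R := F)
    rw [h] at this
    exact_mod_cast this
  obtain ⟨a, ha⟩ := quadraticChar_exists_neg_one h1
  have ha0 : a ≠ 0 := by
    rintro rfl
    simp at ha
  have h3 : quad F a = -1 := by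
    unfold quad
    rw [MulChar.ringHomComp_apply]
    have : quadraticChar F a = -1 := by convert ha
    simp [this]
  rw [h, MulChar.one_apply (IsUnit.mk0 a ha0)] at h3
  norm_num at h3

theorem eps_real (hF : Fintype.card F = q ^ 2) : conj (eps hF (quad F)) = eps hF (quad F) := quad_real _

theorem SS_real (x y : Iso F q) : conj (SS (quad F) x y) = SS (quad F) x y := by
  classical
  unfold SS
  rw [map_sum]
  refine Finset.sum_congr rfl fun l _ => ?_
  split_ifs
  · exact quad_real _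
  · simp

theorem EE_real (hF : Fintype.card F = q ^ 2) (x y : Iso F q) : conj (EE (quad F) hF x y) = EE (quad F) hF x y := by
  unfold EE AA
  simp only [map_mul, map_inv₀, map_sub, map_add, map_pow, Complex.conj_natCast, map_one, eps_real, quad_real, SS_real]

theorem EE'_real (hF : Fintype.card F = q ^ 2) (x y : Iso F q) :
    conj (EE' (quad F) hF x y) = EE' (quad F) hF x y := by
  unfold EE'
  simp only [map_mul, map_inv₀, map_sub, map_pow, Complex.conj_natCast, map_one, EE_real, SS_real]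

theorem quad_cube {c : F} (h : c ^ 3 = 1) : quad F c = 1 := by
  have hc0 : c ≠ 0 := by
    rintro rfl
    simp at h
  have h1 : quad F c ^ 3 = 1 := by rw [← map_pow, h, map_one]
  have h2 : quad F c ^ 2 = 1 := by
    have h3 : (quad F ^ 2) c = (1 : MulChar F ℂ) c := by rw [quad_sq]
    rwa [MulChar.pow_apply' _ two_ne_zero, MulChar.one_apply (IsUnit.mk0 c hc0)] at h3
  calc quad F c = quad F c * quad F c ^ 2 := by rw [h2, mul_one]
    _ = quad F c ^ 3 := by ring
    _ = 1 := h1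

theorem f2_central (hF : Fintype.card F = q ^ 2) {χ : MulChar F ℂ}
    (hc : ∀ c : F, c ^ 3 = 1 → c ^ (q + 1) = 1 → χ c = 1)
    {z : SU 3 F q} (hz : z ∈ Subgroup.center (SU 3 F q)) (g : SU 3 F q) : f2 χ hF (z * g) = f2 χ hF g := by
  obtain ⟨l, hl, hx⟩ := central hF hc hz
  rw [f2, f2]
  refine Finset.sum_congr rfl fun x _ => ?_
  rw [map_mul, Equiv.Perm.mul_apply, hx, EE', EE', EE, EE, SS_sm_right, AA_sm_right, hl, one_mul, one_mul]

variable [Fintype (SU 3 F q)]

theorem irr_both (hF : Fintype.card F = q ^ 2) (H : IsFrame q e f) [Fintype (siegG hF e H.ee)]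
    {χ : MulChar F ℂ} (hχ : χ ^ (q + 1) = 1) (hχ1 : χ ≠ 1) :
    IsIrrCharacter (SU 3 F q) (f1 χ hF) ∧ IsIrrCharacter (SU 3 F q) (f2 χ hF) := by
  have hq := two_le hF
  have h0 : (q : ℂ) ^ 2 - q + 1 ≠ 0 := by
    have h1 : ((q * (q - 1) + 1 : ℕ) : ℂ) = (q : ℂ) ^ 2 - q + 1 := by
      push_cast [Nat.cast_sub (show 1 ≤ q by omega)]; ring
    rw [← h1]
    exact Nat.cast_ne_zero.2 (by positivity)
  have h1 : f1 χ hF ≠ 0 := by
    intro h
    apply h0
    rw [← f1_one hF (χ := χ), h, Pi.zero_apply]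
  have h2 : f2 χ hF ≠ 0 := by
    intro h
    apply mul_ne_zero (left_ne_zero_of_mul (cst_ne' hF)) h0
    rw [← f2_one hF (χ := χ), h, Pi.zero_apply]
  have h3 := (r1 hF H).irr_of_add (Cfsg.Agent.Characters.Linear.isIrrCharacter_hom (theta H χ))
    (fun u hu => theta_U hF H χ u hu) (isCharacter_f1 hF hχ hχ1) (isCharacter_f2 hF hχ hχ1) h1 h2 (f1_add_f2 hF H χ)
  exact ⟨h3.1, h3.2.1⟩

end

/-- **`PSU_3(q)`, `q` odd.** -/
theorem fourReal_psu3 {F : Type} [Field F] [Fintype F] {p q : ℕ} [CharP F p] (hp : p.Prime) (hp2 : p ≠ 2)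
    (hF : Fintype.card F = q ^ 2) [IsSimpleGroup (PSU 3 F q)] : FourReal (PSU 3 F q) := by
  classical
  have : Fact p.Prime := ⟨hp⟩
  have : Fintype (SU 3 F q) := Fintype.ofFinite _
  obtain ⟨e, f, H⟩ := exists_frame (F := F) (q := q) (n := 3) hF (by norm_num)
  have : Fintype (siegG hF e H.ee) := Fintype.ofFinite _
  obtain ⟨n, hn, hn'⟩ := FiniteField.card F p
  have hodd : Odd q := by
    have h1 : Odd (q ^ 2) := by rw [← hF, hn']; exact (hp.odd_of_ne_two hp2).pow
    exact (Nat.odd_mul.1 (by rwa [pow_two] at h1)).1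
  have hq2 : 3 ≤ q := by
    have := two_le hF
    obtain ⟨k, hk⟩ := hodd
    omega
  have hev : (quad F) ^ (q + 1) = 1 := by
    obtain ⟨k, hk⟩ := hodd
    have : q + 1 = 2 * (k + 1) := by omega
    rw [this, pow_mul, quad_sq, one_pow]
  have hne : quad F ≠ 1 := quad_ne (H601.OddDeg.Small.two_ne (F := F) hp2)
  have hc : ∀ c : F, c ^ 3 = 1 → c ^ (q + 1) = 1 → quad F c = 1 := fun c h _ => quad_cube h
  obtain ⟨h1, h2⟩ := irr_both hF H hev hne
  -- deflation
  have defl : ∀ {χ : SU 3 F q → ℂ}, IsIrrCharacter _ χ → (∀ x, conj (χ x) = χ x) →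
      (∀ z ∈ Subgroup.center (SU 3 F q), ∀ g, χ (z * g) = χ g) → ∀ {n : ℕ}, χ 1 = (n : ℂ) → IR (PSU 3 F q) n := by
    intro χ h hr hz n hn
    obtain ⟨η, hη⟩ := Cfsg.Agent.H706.GlaubQuot.exists_deflate (Subgroup.center (SU 3 F q)) h hz
    refine ⟨η, η.2, ?_, ?_⟩
    · intro x
      obtain ⟨g, rfl⟩ := QuotientGroup.mk_surjective x
      have := congrFun hη g
      simp only [Function.comp_apply] at this
      rw [← this]
      exact Complex.conj_eq_iff_im.1 (hr g)
    · have := congrFun hη 1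
      simp only [Function.comp_apply] at this
      rw [hn] at this
      exact this.symm
  have i2 : IR (PSU 3 F q) (q ^ 2 - q + 1) := by
    refine defl h1 ?_ (fun z hz g => f1_central hF hc hz g) ?_
    · intro x
      rw [f1, map_sum]
      exact Finset.sum_congr rfl fun y _ => EE_real hF _ _
    · rw [f1_one hF]
      rw [Nat.cast_add, Nat.cast_sub (by nlinarith)]
      push_cast
      ring
  have i3 : IR (PSU 3 F q) (q * (q ^ 2 - q + 1)) := by
    refine defl h2 ?_ (fun z hz g => f2_central hF hc hz g) ?_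
    · intro x
      rw [f2, map_sum]
      exact Finset.sum_congr rfl fun y _ => EE'_real hF _ _
    · rw [f2_one hF]
      rw [Nat.cast_mul, Nat.cast_add, Nat.cast_sub (by nlinarith)]
      push_cast
      ring
  obtain ⟨m, hm, hR⟩ := Omega.ML.Ex.Typ.typ_PSU (p := p) hF (N := 3) le_rfl
  obtain ⟨Q, ψ, hψ, hψ1, hQ⟩ := H601.OddDeg.Small.exists_st hp hp2 (by omega) hR
  rw [H601.OddDeg.Small.card_sylow_psu3 hp hF Q] at hψ1
  obtain ⟨k, hk⟩ := hodd
  have hk1 : 1 ≤ k := by omega
  have e1 : q ^ 2 - q + 1 = 4 * k ^ 2 + 2 * k + 1 := by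
    have : q ^ 2 = (4 * k ^ 2 + 2 * k) + q := by rw [hk]; ring
    omega
  have e2 : q * (q ^ 2 - q + 1) = 8 * k ^ 3 + 8 * k ^ 2 + 4 * k + 1 := by
    rw [e1, hk]; ring
  have e3 : q ^ 3 = 8 * k ^ 3 + 12 * k ^ 2 + 6 * k + 1 := by rw [hk]; ring
  have hk2 : 1 ≤ k ^ 2 := Nat.one_le_pow _ _ hk1
  have hk3 : k ^ 2 ≤ k ^ 3 := Nat.pow_le_pow_right hk1 (by norm_num)
  rw [e1] at i2
  rw [e2] at i3
  rw [e3] at hψ1
  refine FourReal.of_degrees (IR.one _) (IR.of_inv hψ hψ1) i2 i3 (by norm_num) ?_ ?_ ?_ ?_ ?_ ?_ ?_ ?_ ?_ ?_ <;> omega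

end Cfsg.Agent.H324.K4
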