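import Cfsg.Agent.H601.OddDeg.Perm
import Cfsg.Agent.Characters.SchurBound

/-!
# The parity of the degree and of the fixed vectors of a subgroup of odd order (helper324, for S4947)

`parity` : `U` is a subgroup of odd order, `R` a `2`-group normalizing `U` with `C_U(R) = 1`. Then
`χ(1) ≡ dim χ^U` modulo two, for every character `χ` (real or not).
-/

set_option autoImplicit false

namespace Cfsg.Agent.H324.K4

open Cfsg Subgroup Cfsg.Agent.Characters.Core Cfsg.Agent.H601.OddDeg
open scoped ComplexConjugate Classical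

/-- The sum of an integral function constant on the orbits of a `2`-group without fixed points. -/
theorem sum_eq_two_mul {R X : Type*} [Group R] [Finite R] [MulAction R X] [Fintype X] (hR : IsPGroup 2 R)
    (hfix : ∀ x : X, ∃ r : R, r • x ≠ x) (f : X → ℂ) (hf : ∀ (r : R) (x : X), f (r • x) = f x)
    (hi : ∀ x, IsIntegral ℤ (f x)) : ∃ z : ℂ, IsIntegral ℤ z ∧ ∑ x, f x = 2 * z := by
  have : Fact (Nat.Prime 2) := ⟨Nat.prime_two⟩
  let Ω := MulAction.orbitRel.Quotient R X
  have : Fintype Ω := Fintype.ofFinite _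
  have h1 : ∑ x, f x = ∑ ω : Ω, ∑ y : MulAction.orbit R ω.out, f (y : X) := by
    rw [← Fintype.sum_sigma' (fun (ω : Ω) (y : MulAction.orbit R ω.out) => f (y : X))]
    refine Fintype.sum_equiv (MulAction.selfEquivSigmaOrbits R X) _ _ fun x => ?_
    have h2 := (MulAction.selfEquivSigmaOrbits R X).symm_apply_apply x
    conv_lhs => rw [← h2]
    rfl
  have h2 : ∀ ω : Ω, ∃ k : ℕ, ∑ y : MulAction.orbit R ω.out, f (y : X) = 2 * (k * f ω.out) := by
    intro ω
    have h3 : ∀ y : MulAction.orbit R ω.out, f (y : X) = f ω.out := by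
      rintro ⟨_, r, rfl⟩
      exact hf r _
    obtain ⟨n, hn⟩ := hR.card_orbit ω.out
    have hn0 : n ≠ 0 := by
      rintro rfl
      rw [pow_zero, Nat.card_eq_one_iff_unique] at hn
      obtain ⟨hs, -⟩ := hn
      obtain ⟨r, hr⟩ := hfix ω.out
      apply hr
      have h4 : (⟨r • ω.out, ⟨r, rfl⟩⟩ : MulAction.orbit R ω.out) = ⟨ω.out, MulAction.mem_orbit_self _⟩ :=
        Subsingleton.elim _ _
      exact congrArg Subtype.val h4
    obtain ⟨m, rfl⟩ := Nat.exists_eq_succ_of_ne_zero hn0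
    refine ⟨2 ^ m, ?_⟩
    rw [Finset.sum_congr rfl fun y _ => h3 y, Finset.sum_const, Finset.card_univ, ← Nat.card_eq_fintype_card, hn,
      nsmul_eq_mul, pow_succ]
    push_cast
    ring
  choose k hk using h2
  refine ⟨∑ ω : Ω, (k ω * f ω.out), ?_, ?_⟩
  · exact IsIntegral.sum _ fun ω _ => IsIntegral.mul (isIntegral_algebraMap (x := ((k ω : ℕ) : ℤ))) (hi _)
  · rw [h1, Finset.mul_sum]
    exact Finset.sum_congr rfl fun ω _ => hk ω

/-- **The parity lemma.** -/
theorem parity {G : Type*} [Group G] [Fintype G] (U R : Subgroup G) (hU : Odd (Nat.card U)) (hR : IsPGroup 2 R)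
    (hn : ∀ r ∈ R, ∀ u ∈ U, r * u * r⁻¹ ∈ U) (hfix : ∀ u ∈ U, (∀ r ∈ R, r * u * r⁻¹ = u) → u = 1)
    {χ : G → ℂ} (hχ : IsCharacter G χ) {m d : ℕ} (hm : mult U χ = m) (hd : χ 1 = d) : m ≡ d [MOD 2] := by
  let X := {u : U // u ≠ 1}
  have : Fintype X := Fintype.ofFinite _
  let _ : MulAction R X :=
    { smul := fun r x => ⟨⟨(r : G) * x.1 * (r : G)⁻¹, hn r r.2 _ x.1.2⟩, fun h => x.2 (by
        apply Subtype.ext
        have h1 := congrArg Subtype.val h
        simp only [coe_one] at h1 ⊢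
        exact (conj_eq_one_iff (a := (r : G))).1 h1)⟩
      one_smul := fun x => by
        apply Subtype.ext
        apply Subtype.ext
        show ((1 : R) : G) * x.1 * ((1 : R) : G)⁻¹ = _
        simp
      mul_smul := fun r s x => by
        apply Subtype.ext
        apply Subtype.ext
        show ((r * s : R) : G) * x.1 * ((r * s : R) : G)⁻¹ = (r : G) * ((s : G) * x.1 * (s : G)⁻¹) * (r : G)⁻¹
        push_cast
        group }
  have hsm : ∀ (r : R) (x : X), (((r • x : X) : U) : G) = (r : G) * x.1 * (r : G)⁻¹ := fun _ _ => rfl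
  obtain ⟨z, hz, hz2⟩ := sum_eq_two_mul hR (X := X) (by
    intro x
    by_contra hc
    push Not at hc
    apply x.2
    apply Subtype.ext
    refine hfix _ x.1.2 fun r hr => ?_
    have h1 := congrArg (fun y : X => ((y : U) : G)) (hc ⟨r, hr⟩)
    simpa only [hsm] using h1) (fun x => χ (x : U)) (by
    intro r x
    show χ (((r • x : X) : U) : G) = χ ((x : U) : G)
    rw [hsm]
    exact isCharacter_isClassFunction hχ _ _) (fun x => Cfsg.Agent.CharactersDeep.AChar.isIntegral_isCharacter hχ _)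
  have hc0 : (Nat.card U : ℂ) ≠ 0 := Nat.cast_ne_zero.2 Nat.card_pos.ne'
  have h1 : (Nat.card U : ℂ) * m = ∑ u : U, χ u := by
    rw [← hm, mult, sB_one_eq, mul_inv_cancel_left₀ hc0]
  have h2 : ∑ u : U, χ u = χ 1 + ∑ x : X, χ (x : U) := by
    rw [← Finset.add_sum_erase Finset.univ (fun u : U => χ u) (Finset.mem_univ (1 : U))]
    congr 1
    refine Finset.sum_subtype _ (fun u => ?_) _
    simp
  rw [h2, hz2, hd] at h1
  -- an integer which is twice an algebraic integer
  have h3 : (2 : ℂ) * z = (((Nat.card U * m : ℕ) : ℤ) - (d : ℤ) : ℤ) := by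
    push_cast
    linear_combination -h1
  obtain ⟨a, ha⟩ : ∃ a : ℤ, z = a := by
    refine Cfsg.Agent.Characters.SchurBound.exists_int_of_rat hz (q := (((Nat.card U * m : ℕ) : ℚ) - d) / 2) ?_
    push_cast at h3 ⊢
    linear_combination h3 / 2
  rw [ha] at h3
  have h4 : (2 : ℤ) * a = ((Nat.card U * m : ℕ) : ℤ) - (d : ℤ) := by exact_mod_cast h3
  obtain ⟨k, hk⟩ := hU
  rw [hk] at h4
  push_cast at h4
  have h5 : ((m : ℤ) - d) = 2 * (a - k * m) := by linear_combination -h4
  rw [Nat.ModEq]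
  omega

end Cfsg.Agent.H324.K4
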